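import Cfsg.Agent.H86.FinalU

/-!
# Subfields of finite fields
-/

set_option autoImplicit false

namespace Cfsg.Agent.H86.SubK

universe u

variable {F : Type u} [Field F]

/-- degrees of finite subfields -/
theorem card_pow {p : ℕ} {K L : Subfield F} [Finite L] (h : K ≤ L) {a m : ℕ} (hp : 1 < p)
    (hK : Nat.card K = p ^ a) (hL : Nat.card L = p ^ m) : ∃ r : ℕ, m = a * r := by
  have hKfin : Finite K := Finite.of_injective (Subfield.inclusion h) (Subfield.inclusion h).injective
  letI : Algebra K L := (Subfield.inclusion h).toAlgebra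
  have : Fintype K := Fintype.ofFinite K
  have : Fintype L := Fintype.ofFinite L
  have h1 := Module.card_eq_pow_finrank (K := K) (V := L)
  rw [← Nat.card_eq_fintype_card, ← Nat.card_eq_fintype_card, hK, hL, ← pow_mul] at h1
  exact ⟨_, Nat.pow_right_injective hp h1⟩

/-- the fixed field of `t ↦ t ^ (p ^ a)` in an algebraically closed field -/
theorem exists_subfield_closed [IsAlgClosed F] (p : ℕ) [Fact p.Prime] [CharP F p] {a : ℕ} (ha : 0 < a) :
    ∃ E : Subfield F, Nat.card E = p ^ a ∧ ∀ t : F, t ∈ E ↔ t ^ p ^ a = t := by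
  classical
  have hp : p.Prime := Fact.out
  have : ExpChar F p := ExpChar.prime Fact.out
  refine ⟨RingHom.eqLocusField (iterateFrobenius F p a) (RingHom.id F), ?_, fun t => ?_⟩
  · let f : Polynomial F := Polynomial.X ^ p ^ a - Polynomial.X
    have hsep : f.Separable := galois_poly_separable p (p ^ a) (dvd_pow_self p ha.ne')
    have h1 : 1 < p ^ a := Nat.one_lt_pow ha.ne' hp.one_lt
    have h0 : f ≠ 0 := FiniteField.X_pow_card_sub_X_ne_zero F h1
    have h2 : f.rootSet F = ((RingHom.eqLocusField (iterateFrobenius F p a) (RingHom.id F) : Subfield F) : Set F) := by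
      ext t
      rw [Polynomial.mem_rootSet, SetLike.mem_coe, RingHom.mem_eqLocusField, iterateFrobenius_def]
      constructor
      · rintro ⟨-, h3⟩
        simpa [f, sub_eq_zero] using h3
      · intro h3
        exact ⟨h0, by simp [f, h3]⟩
    have h3 := Polynomial.card_rootSet_eq_natDegree (K := F) hsep (IsAlgClosed.splits _)
    rw [FiniteField.X_pow_card_sub_X_natDegree_eq F h1] at h3
    rw [← h3, ← Nat.card_eq_fintype_card]
    exact Nat.card_congr (Equiv.setCongr h2.symm)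
  · rw [RingHom.mem_eqLocusField, iterateFrobenius_def]
    rfl

/-- divisibility of exponents in a finite field -/
theorem dvd_of_fixed [Fintype F] {p a m r : ℕ} (hp : 1 < p) (ha : 0 < a) (hm : 0 < m) (hr : 0 < r)
    (hF : Fintype.card F = (p ^ a) ^ r) (h : ∀ t : F, t ^ p ^ a = t → t ^ p ^ m = t) : a ∣ m := by
  classical
  have h1 : 1 < p ^ a := Nat.one_lt_pow ha.ne' hp
  obtain ⟨g, hg⟩ := IsCyclic.exists_generator (α := Fˣ)
  have hgo : orderOf g = (p ^ a) ^ r - 1 := by
    rw [orderOf_eq_card_of_forall_mem_zpowers hg, Nat.card_eq_fintype_card, Fintype.card_units, hF]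
  have hd : p ^ a - 1 ∣ (p ^ a) ^ r - 1 := by
    have := Nat.sub_dvd_pow_sub_pow (p ^ a) 1 r
    rwa [one_pow] at this
  have hq1 : 0 < (p ^ a) ^ r - 1 := by
    have : 1 < (p ^ a) ^ r := Nat.one_lt_pow hr.ne' h1
    omega
  obtain ⟨k, hk⟩ := hd
  have hk0 : k ≠ 0 := by rintro rfl; omega
  have hho : orderOf (g ^ k) = p ^ a - 1 := by
    rw [orderOf_pow_of_dvd hk0 (by rw [hgo, hk]; exact dvd_mul_left _ _), hgo, hk]
    exact Nat.mul_div_cancel _ (Nat.pos_of_ne_zero hk0)
  have h2 : ((g ^ k : Fˣ) : F) ^ p ^ a = ((g ^ k : Fˣ) : F) := by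
    have h3 : (g ^ k) ^ (p ^ a) = g ^ k := by
      have h4 := pow_orderOf_eq_one (g ^ k)
      rw [hho] at h4
      calc (g ^ k) ^ (p ^ a) = (g ^ k) ^ ((p ^ a - 1) + 1) := by rw [Nat.sub_add_cancel h1.le]
        _ = g ^ k := by rw [pow_succ, h4, one_mul]
    exact_mod_cast congrArg Units.val h3
  have h3 := h _ h2
  have h4 : (g ^ k) ^ (p ^ m) = g ^ k := Units.ext (by exact_mod_cast h3)
  have hm1 : 1 < p ^ m := Nat.one_lt_pow hm.ne' hp
  have h5 : (g ^ k) ^ (p ^ m - 1) = 1 := by
    have h6 : (g ^ k) ^ (p ^ m - 1) * (g ^ k) = g ^ k := by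
      rw [← pow_succ, Nat.sub_add_cancel hm1.le, h4]
    exact (mul_eq_right).1 h6
  have h6 : p ^ a - 1 ∣ p ^ m - 1 := by
    rw [← hho]; exact orderOf_dvd_of_pow_eq_one h5
  have h7 := Nat.pow_sub_one_gcd_pow_sub_one p a m
  rw [Nat.gcd_eq_left h6] at h7
  have hg0 : 0 < Nat.gcd a m := Nat.gcd_pos_of_pos_left _ ha
  have h8 : p ^ a = p ^ Nat.gcd a m := by
    have h9 : 1 ≤ p ^ Nat.gcd a m := Nat.one_le_pow _ _ (by omega)
    omega
  have h9 := Nat.pow_right_injective hp h8
  rw [h9]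
  exact Nat.gcd_dvd_right _ _

end Cfsg.Agent.H86.SubK
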