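import Cfsg.Agent.H86.LevDef

/-!
# The values `car chevE8 239 s` (table, in four ranges)
-/

set_option autoImplicit false
set_option maxHeartbeats 0

namespace Cfsg.Agent.H86.Lev

open Cfsg.Lie Cfsg.Agent.ChevalleyStructure Cfsg.Agent.ChevalleyStructure.RootCombGood

theorem range_four {P : ℕ → Prop} (a : ℕ) (h0 : ∀ s < a, P s) (h1 : ∀ s < a, P (a + s)) (h2 : ∀ s < a, P (2 * a + s))
    (h3 : ∀ s < a, P (3 * a + s)) : ∀ s < 4 * a, P s := by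
  intro s hs
  by_cases c0 : s < a
  · exact h0 s c0
  by_cases c1 : s < 2 * a
  · have h := h1 (s - a) (by omega)
    rwa [show a + (s - a) = s by omega] at h
  by_cases c2 : s < 3 * a
  · have h := h2 (s - 2 * a) (by omega)
    rwa [show 2 * a + (s - 2 * a) = s by omega] at h
  · have h := h3 (s - 3 * a) (by omega)
    rwa [show 3 * a + (s - 3 * a) = s by omega] at h

/-- the values -/
def carTab : List ℤ :=
  [-2, -1, -1, -1, -1, -1, -1, -1, -1, -1, -1, -1, -1, 0, -1, -1, -1, -1, -1, -1, 0, -1, -1, -1, -1, 0, -1, -1,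
   -1, 0, -1, -1, 0, -1, 0, 0, -1, -1, -1, 0, -1, -1, 0, -1, 0, 0, -1, -1, 0, -1, 0, 0, -1, 0, 0, 0, -1, -1, 0,
   -1, 0, 0, -1, 0, 0, 0, -1, 0, 0, 0, 0, -1, 0, 0, 0, 0, 0, 0, -1, -1, 0, -1, 0, 0, -1, 0, 0, 0, -1, 0, 0, 0,
   0, -1, 0, 0, 0, 0, 0, -1, 0, 0, 0, 0, 0, -1, 0, 0, 0, 0, -1, 0, 0, 0, -1, 0, 0, -1, 0, -1, 1, 0, 1, 0, 0, 1,
   0, 0, 0, 1, 0, 0, 0, 0, 1, 0, 0, 0, 0, 0, 1, 0, 0, 0, 0, 0, 1, 0, 0, 0, 0, 1, 0, 0, 0, 1, 0, 0, 1, 0, 1, 1,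
   0, 0, 0, 0, 0, 0, 1, 0, 0, 0, 0, 1, 0, 0, 0, 1, 0, 0, 1, 0, 1, 1, 0, 0, 0, 1, 0, 0, 1, 0, 1, 1, 0, 0, 1, 0,
   1, 1, 0, 1, 1, 1, 0, 0, 1, 0, 1, 1, 0, 1, 1, 1, 0, 1, 1, 1, 1, 0, 1, 1, 1, 1, 1, 1, 0, 1, 1, 1, 1, 1, 1, 1,
   1, 1, 1, 1, 1, 2]

def carT (s : ℕ) : ℤ := carTab.getD s 0

theorem carE8_0 : ∀ s < 60, car chevE8 239 s = carT s := by decide +kernel
theorem carE8_1 : ∀ s < 60, car chevE8 239 (60 + s) = carT (60 + s) := by decide +kernel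
theorem carE8_2 : ∀ s < 60, car chevE8 239 (2 * 60 + s) = carT (2 * 60 + s) := by decide +kernel
theorem carE8_3 : ∀ s < 60, car chevE8 239 (3 * 60 + s) = carT (3 * 60 + s) := by decide +kernel

theorem carE8 : ∀ s < 240, car chevE8 239 s = carT s :=
  range_four (P := fun s => car chevE8 239 s = carT s) 60 carE8_0 carE8_1 carE8_2 carE8_3

theorem nrE8 : chevE8.nroots = 240 := by decide +kernel

end Cfsg.Agent.H86.Lev
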