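import Cfsg.Agent.H86.CarE8

/-!
# The values `car chevE8 0 s`, the negatives of `car chevE8 239 s` (in four ranges)
-/

set_option autoImplicit false
set_option maxHeartbeats 0

namespace Cfsg.Agent.H86.Lev

open Cfsg.Lie Cfsg.Agent.ChevalleyStructure Cfsg.Agent.ChevalleyStructure.RootCombGood

theorem carE8n_0 : ∀ s < 60, car chevE8 0 s = -carT s := by decide +kernel
theorem carE8n_1 : ∀ s < 60, car chevE8 0 (60 + s) = -carT (60 + s) := by decide +kernel
theorem carE8n_2 : ∀ s < 60, car chevE8 0 (2 * 60 + s) = -carT (2 * 60 + s) := by decide +kernel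
theorem carE8n_3 : ∀ s < 60, car chevE8 0 (3 * 60 + s) = -carT (3 * 60 + s) := by decide +kernel

theorem carE8n : ∀ s < 240, car chevE8 0 s = -carT s :=
  range_four (P := fun s => car chevE8 0 s = -carT s) 60 carE8n_0 carE8n_1 carE8n_2 carE8n_3

end Cfsg.Agent.H86.Lev
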