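import Cfsg.Agent.H86.Lev
import Cfsg.Agent.ChevalleyStructure.BruhatSplit

/-!
# Graded matrices and the groups `Q D F β`

`Raises L k M`: the matrix `M` raises the level given by the linear function `L` on roots by at least `k`.
`Rg L k`: invertible matrices `g` with `g - 1`, `g⁻¹ - 1` raising by `k`.
`Q D F β`: generated by the root subgroups of level at least one (with respect to the coroot of `β`).
-/

set_option autoImplicit false

namespace Cfsg.Agent.H86.Graded

open Cfsg.Lie Cfsg.Agent.ChevalleyStructure Cfsg.Agent.ChevalleyStructure.RootCombGood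
  Cfsg.Agent.ChevalleyStructure.RootWord Cfsg.Agent.ChevalleyStructure.RootVec
  Cfsg.Agent.ChevalleyStructure.RootVecTab Cfsg.Agent.ChevalleyStructure.RootSupport
  Cfsg.Agent.ChevalleyStructure.Elts Cfsg.Agent.H86.Lev

universe u

variable {D : ChevalleyDatum} {F : Type u} [Field F]

/-- `L` is the restriction of a linear function to the roots. -/
def Lin (D : ChevalleyDatum) (L : ℕ → ℤ) : Prop :=
  ∀ u r s : ℕ, ∀ a b : ℤ, u < D.nroots → r < D.nroots → s < D.nroots →
    (∀ i < D.rank, rt D u i = a * rt D r i + b * rt D s i) → L u = a * L r + b * L s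

theorem lin_car (hc : Checked D) (β : ℕ) : Lin D (car D β) :=
  fun _ _ _ _ _ hu hr hs e => car_add hc β hu hr hs e

/-- the height -/
def ht (D : ChevalleyDatum) (r : ℕ) : ℤ := ∑ i ∈ Finset.range D.rank, rt D r i

theorem lin_ht : Lin D (ht D) := by
  intro u r s a b _ _ _ e
  unfold ht
  rw [Finset.mul_sum, Finset.mul_sum, ← Finset.sum_add_distrib]
  exact Finset.sum_congr rfl fun i hi => e i (Finset.mem_range.1 hi)

theorem ht_pos (hc : Checked D) {r : ℕ} (hr : D.IsPosRoot r) : 1 ≤ ht D r := by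
  obtain ⟨i, hi, hne⟩ := exists_rt_ne_zero hc hr.1
  have h0 := ((RootVec.isPosRoot_iff hc r).1 hr).2
  have h1 : 0 < ht D r := by
    unfold ht
    refine Finset.sum_pos' (fun j hj => h0 j (Finset.mem_range.1 hj)) ⟨i, Finset.mem_range.2 hi, ?_⟩
    exact lt_of_le_of_ne (h0 i hi) (Ne.symm hne)
  omega

/-- level of a basis vector -/
def wl (D : ChevalleyDatum) (L : ℕ → ℤ) (x : D.Idx) : ℤ := Sum.elim (fun _ => 0) (fun s : Fin D.nroots => L s.val) x

@[simp] theorem wl_inl (L : ℕ → ℤ) (a : Fin D.rank) : wl D L (Sum.inl a) = 0 := rfl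

@[simp] theorem wl_inr (L : ℕ → ℤ) (s : Fin D.nroots) : wl D L (Sum.inr s) = L s.val := rfl

/-- `M` raises the level by at least `k`. -/
def Raises (L : ℕ → ℤ) (k : ℤ) (M : Matrix D.Idx D.Idx F) : Prop :=
  ∀ i j, M i j ≠ 0 → wl D L j + k ≤ wl D L i

namespace Raises

variable {L : ℕ → ℤ} {k l : ℤ} {M N : Matrix D.Idx D.Idx F}

theorem mono (h : Raises L k M) (hk : l ≤ k) : Raises L l M := fun i j hij => by
  have := h i j hij
  omega

theorem zero (k : ℤ) : Raises L k (0 : Matrix D.Idx D.Idx F) := fun _ _ h => absurd rfl h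

theorem one : Raises L 0 (1 : Matrix D.Idx D.Idx F) := by
  intro i j h
  by_cases hij : i = j
  · subst hij; simp
  · exact absurd (Matrix.one_apply_ne hij) h

theorem add (hM : Raises L k M) (hN : Raises L k N) : Raises L k (M + N) := by
  intro i j h
  by_cases h1 : M i j = 0
  · by_cases h2 : N i j = 0
    · exact absurd (by simp [h1, h2]) h
    · exact hN i j h2
  · exact hM i j h1

theorem neg (hM : Raises L k M) : Raises L k (-M) := fun i j h => hM i j (by simpa using h)

theorem sub (hM : Raises L k M) (hN : Raises L k N) : Raises L k (M - N) := by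
  rw [sub_eq_add_neg]; exact hM.add hN.neg

theorem mul (hM : Raises L k M) (hN : Raises L l N) : Raises L (k + l) (M * N) := by
  intro i j h
  rw [Matrix.mul_apply] at h
  obtain ⟨m, -, hm⟩ := Finset.exists_ne_zero_of_sum_ne_zero h
  have h1 := hM i m (left_ne_zero_of_mul hm)
  have h2 := hN m j (right_ne_zero_of_mul hm)
  omega

theorem apply_eq_zero (hM : Raises L k M) {i j : D.Idx} (h : wl D L i < wl D L j + k) : M i j = 0 := by
  by_contra hne
  have := hM i j hne
  omega

end Raises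

theorem rt_zero_absurd (hc : Checked D) {r : ℕ} (hr : r < D.nroots) (k : ℕ) (hk : 1 ≤ k)
    (h : ∀ i, (0 : ℤ) = 0 + (k : ℤ) * rt D r i) : False := by
  obtain ⟨i, _, hne⟩ := exists_rt_ne_zero hc hr
  have := h i
  rw [zero_add] at this
  rcases mul_eq_zero.1 this.symm with h1 | h1
  · omega
  · exact hne h1

/-- support of `x_r(t) - 1` in terms of a linear function -/
theorem x_support (hc : Checked D) {L : ℕ → ℤ} (hL : Lin D L) {r : ℕ} (hr : r < D.nroots) (t : F) {row col : D.Idx}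
    (hne : (D.x F r t - 1) row col ≠ 0) : ∃ k : ℕ, 1 ≤ k ∧ wl D L row = wl D L col + (k : ℤ) * L r := by
  obtain ⟨k, hk, h⟩ := x_sub_one_support hc r t row col hne
  refine ⟨k, hk, ?_⟩
  rcases row with a | u <;> rcases col with b | s
  · exact (rt_zero_absurd hc hr k hk (by simpa using h)).elim
  · have h1 := hL s r r (-(k : ℤ)) 0 s.isLt hr hr (fun i _ => by
      have := h i
      simp only [wt_inl, wt_inr] at this
      linarith)
    simp only [wl_inl, wl_inr]
    rw [h1]; ring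
  · have h1 := hL u r r (k : ℤ) 0 u.isLt hr hr (fun i _ => by
      have := h i
      simp only [wt_inl, wt_inr] at this
      linarith)
    simp only [wl_inl, wl_inr]
    rw [h1]; ring
  · have h1 := hL u r s (k : ℤ) 1 u.isLt hr s.isLt (fun i _ => by
      have := h i
      simp only [wt_inr] at this
      linarith)
    simp only [wl_inr]
    rw [h1]; ring

theorem x_raises (hc : Checked D) {L : ℕ → ℤ} (hL : Lin D L) {r : ℕ} (hr : r < D.nroots) (h0 : 0 ≤ L r) (t : F) :
    Raises L (L r) (D.x F r t - 1) := by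
  intro i j hij
  obtain ⟨k, hk, h⟩ := x_support hc hL hr t hij
  rw [h]
  have : L r ≤ (k : ℤ) * L r := by
    have hk' : (1 : ℤ) ≤ k := by exact_mod_cast hk
    nlinarith
  omega

/-- invertible matrices `g` with `g - 1`, `g⁻¹ - 1` raising by at least `k ≥ 0` -/
def Rg (D : ChevalleyDatum) (F : Type u) [Field F] (L : ℕ → ℤ) (k : ℤ) (hk : 0 ≤ k) : Subgroup (GL D.Idx F) where
  carrier := {g | Raises L k ((g : Matrix D.Idx D.Idx F) - 1) ∧ Raises L k (((g⁻¹ : GL D.Idx F) : Matrix D.Idx D.Idx F) - 1)}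
  one_mem' := by
    constructor
    · simpa using Raises.zero k
    · simpa using Raises.zero k
  mul_mem' := by
    have key : ∀ g h : GL D.Idx F, Raises L k ((g : Matrix D.Idx D.Idx F) - 1) →
        Raises L k ((h : Matrix D.Idx D.Idx F) - 1) → Raises L k (((g * h : GL D.Idx F) : Matrix D.Idx D.Idx F) - 1) := by
      intro g h hg hh
      have e : ((g * h : GL D.Idx F) : Matrix D.Idx D.Idx F) - 1 =
          ((g : Matrix D.Idx D.Idx F) - 1) * ((h : Matrix D.Idx D.Idx F) - 1) + ((g : Matrix D.Idx D.Idx F) - 1)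
            + ((h : Matrix D.Idx D.Idx F) - 1) := by
        rw [Units.val_mul]; noncomm_ring
      rw [e]
      exact (((hg.mul hh).mono (by omega)).add hg).add hh
    rintro g h ⟨hg, hg'⟩ ⟨hh, hh'⟩
    exact ⟨key g h hg hh, by rw [mul_inv_rev]; exact key _ _ hh' hg'⟩
  inv_mem' := by
    rintro g ⟨hg, hg'⟩
    exact ⟨hg', by rw [inv_inv]; exact hg⟩

theorem xG_mem_Rg (hD : InList D) {L : ℕ → ℤ} (hL : Lin D L) {r : ℕ} (hr : r < D.nroots) {k : ℤ} (hk : 0 ≤ k)
    (h0 : k ≤ L r) (t : F) : xG hD r t ∈ Rg D F L k hk := by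
  have hc := checked_of_mem hD
  constructor
  · rw [coe_xG]
    exact (x_raises hc hL hr (by omega) t).mono h0
  · rw [xG_inv, coe_xG]
    exact (x_raises hc hL hr (by omega) (-t)).mono h0

theorem Rg.raises {L : ℕ → ℤ} {k : ℤ} {hk : 0 ≤ k} {g : GL D.Idx F} (hg : g ∈ Rg D F L k hk) :
    Raises L k ((g : Matrix D.Idx D.Idx F) - 1) := hg.1

theorem Rg.mono {L : ℕ → ℤ} {k l : ℤ} {hk : 0 ≤ k} {hl : 0 ≤ l} (h : l ≤ k) : Rg D F L k hk ≤ Rg D F L l hl :=
  fun _ hg => ⟨hg.1.mono h, hg.2.mono h⟩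

theorem Rg.raises_zero {L : ℕ → ℤ} {k : ℤ} {hk : 0 ≤ k} {g : GL D.Idx F} (hg : g ∈ Rg D F L k hk) :
    Raises L 0 (g : Matrix D.Idx D.Idx F) := by
  have h1 : Raises L 0 ((g : Matrix D.Idx D.Idx F) - 1) := hg.1.mono hk
  have h2 := h1.add Raises.one
  rwa [sub_add_cancel] at h2

/-- below level `k` the entries are those of the identity -/
theorem Rg.apply {L : ℕ → ℤ} {k : ℤ} {hk : 0 ≤ k} {g : GL D.Idx F} (hg : g ∈ Rg D F L k hk) {i j : D.Idx}
    (h : wl D L i < wl D L j + k) : (g : Matrix D.Idx D.Idx F) i j = if i = j then 1 else 0 := by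
  have := hg.1.apply_eq_zero h
  rw [Matrix.sub_apply, sub_eq_zero, Matrix.one_apply] at this
  exact this

/-- entries at a level difference below `2 k` are additive -/
theorem Rg.mul_apply {L : ℕ → ℤ} {k : ℤ} {hk : 0 ≤ k} {g h : GL D.Idx F} (hg : g ∈ Rg D F L k hk)
    (hh : h ∈ Rg D F L k hk) {i j : D.Idx} (hij : i ≠ j) (hl : wl D L i < wl D L j + 2 * k) :
    ((g * h : GL D.Idx F) : Matrix D.Idx D.Idx F) i j =
      (g : Matrix D.Idx D.Idx F) i j + (h : Matrix D.Idx D.Idx F) i j := by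
  have e : ((g * h : GL D.Idx F) : Matrix D.Idx D.Idx F) =
      ((g : Matrix D.Idx D.Idx F) - 1) * ((h : Matrix D.Idx D.Idx F) - 1) + (g : Matrix D.Idx D.Idx F)
        + ((h : Matrix D.Idx D.Idx F) - 1) := by
    rw [Units.val_mul]; noncomm_ring
  have h1 := (hg.1.mul hh.1).apply_eq_zero (i := i) (j := j) (by omega)
  rw [e, Matrix.add_apply, Matrix.add_apply, h1, zero_add, Matrix.sub_apply, Matrix.one_apply_ne hij, sub_zero]

/-- conjugation by an element preserving the filtration up to higher terms does not change the leading entries -/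
theorem Rg.conj_apply {L : ℕ → ℤ} {k : ℤ} {hk : 0 ≤ k} {g u : GL D.Idx F} (hg : g ∈ Rg D F L k hk)
    (hu : u ∈ Rg D F L 1 zero_le_one) {i j : D.Idx} (hl : wl D L i ≤ wl D L j + k) :
    ((u * g * u⁻¹ : GL D.Idx F) : Matrix D.Idx D.Idx F) i j = (g : Matrix D.Idx D.Idx F) i j := by
  have e : ((u * g * u⁻¹ : GL D.Idx F) : Matrix D.Idx D.Idx F) =
      (g : Matrix D.Idx D.Idx F) + (((u : Matrix D.Idx D.Idx F) - 1) * ((g : Matrix D.Idx D.Idx F) - 1) *
        ((u⁻¹ : GL D.Idx F) : Matrix D.Idx D.Idx F) +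
        ((g : Matrix D.Idx D.Idx F) - 1) * (((u⁻¹ : GL D.Idx F) : Matrix D.Idx D.Idx F) - 1)) := by
    have h1 : (u : Matrix D.Idx D.Idx F) * ((u⁻¹ : GL D.Idx F) : Matrix D.Idx D.Idx F) = 1 := by
      rw [← Units.val_mul, mul_inv_cancel, Units.val_one]
    rw [Units.val_mul, Units.val_mul]
    have h2 : (g : Matrix D.Idx D.Idx F) + (((u : Matrix D.Idx D.Idx F) - 1) * ((g : Matrix D.Idx D.Idx F) - 1) *
        ((u⁻¹ : GL D.Idx F) : Matrix D.Idx D.Idx F) +
        ((g : Matrix D.Idx D.Idx F) - 1) * (((u⁻¹ : GL D.Idx F) : Matrix D.Idx D.Idx F) - 1)) =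
        (u : Matrix D.Idx D.Idx F) * (g : Matrix D.Idx D.Idx F) * ((u⁻¹ : GL D.Idx F) : Matrix D.Idx D.Idx F) -
        (u : Matrix D.Idx D.Idx F) * ((u⁻¹ : GL D.Idx F) : Matrix D.Idx D.Idx F) + 1 := by noncomm_ring
    rw [h2, h1, sub_add_cancel]
  have hu0 : Raises L 0 ((u⁻¹ : GL D.Idx F) : Matrix D.Idx D.Idx F) := Rg.raises_zero (Subgroup.inv_mem _ hu)
  have hr : Raises L (k + 1) (((u : Matrix D.Idx D.Idx F) - 1) * ((g : Matrix D.Idx D.Idx F) - 1) *
        ((u⁻¹ : GL D.Idx F) : Matrix D.Idx D.Idx F) +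
        ((g : Matrix D.Idx D.Idx F) - 1) * (((u⁻¹ : GL D.Idx F) : Matrix D.Idx D.Idx F) - 1)) := by
    refine Raises.add ?_ ?_
    · exact ((hu.1.mul hg.1).mul hu0).mono (by omega)
    · exact (hg.1.mul hu.2).mono (by omega)
  rw [e, Matrix.add_apply, hr.apply_eq_zero (by omega), add_zero]

/-- positive unipotent elements raise the height -/
theorem pos_le_Rg (hD : InList D) : D.posUnipotent F ≤ Rg D F (ht D) 1 zero_le_one := by
  rw [posUnipotent_le_iff hD]
  intro r hr t
  exact xG_mem_Rg hD lin_ht hr.1 _ (ht_pos (checked_of_mem hD) hr) t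

end Cfsg.Agent.H86.Graded
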