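import Cfsg.Agent.H86.Par

/-!
# Minimal decompositions `g = p n c` modulo the parabolic `P`

* `exists_min`: `g = p n c`, `p ∈ P`, `n ∈ NL`, `c ∈ U`, `n c n⁻¹ ∈ Q⁻`;
* `min_unique`;
* `exists_fixed_part`: if `x_a(t)^g` is fixed by `fr D f` then `g = p l`, `l ∈ FL D f`.
-/

set_option autoImplicit false

namespace Cfsg.Agent.H86.Par

open Cfsg.Lie Cfsg.Agent.ChevalleyStructure Cfsg.Agent.ChevalleyStructure.RootCombGood
  Cfsg.Agent.ChevalleyStructure.RootWord Cfsg.Agent.ChevalleyStructure.RootVec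
  Cfsg.Agent.ChevalleyStructure.RootVecTab Cfsg.Agent.ChevalleyStructure.RootSupport
  Cfsg.Agent.ChevalleyStructure.Elts Cfsg.Agent.ChevalleyStructure.BruhatSplit
  Cfsg.Agent.H86.Lev Cfsg.Agent.H86.Graded Cfsg.Agent.H92.ChevCent Cfsg.Agent.H92.ChevFrob

universe u

variable {D : ChevalleyDatum} {F : Type u} [Field F]

/-- the level is the sum of the levels of the simple constituents -/
theorem level_eq_sum (hD : InList D) {r : ℕ} (hr : r < D.nroots) :
    car D (top D) r = ∑ j ∈ Finset.range D.rank, rt D r j * car D (top D) (D.simple j) := by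
  have hc := checked_of_mem hD
  unfold car
  simp_rw [Finset.mul_sum]
  rw [Finset.sum_comm]
  refine Finset.sum_congr rfl fun k hk => ?_
  rw [cartan_eq_sum hc (Finset.mem_range.1 hk) hr, Finset.mul_sum]
  exact Finset.sum_congr rfl fun j _ => by ring

/-- if a word makes a positive root of level zero negative, it makes a simple root of level zero negative -/
theorem exists_simple_neg_zero (hD : InList D) {w : List ℕ} (hw : ∀ a ∈ w, a < D.rank) {s : ℕ} (hs : D.IsPosRoot s)
    (h0 : car D (top D) s = 0) (hneg : D.IsNegRoot (wact D w s)) :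
    ∃ i < D.rank, car D (top D) (D.simple i) = 0 ∧ D.IsNegRoot (wact D w (D.simple i)) := by
  have hc := checked_of_mem hD
  have G := good hD
  by_contra hcon
  push Not at hcon
  have hnn := ((RootVec.isPosRoot_iff hc s).1 hs).2
  have hterm : ∀ j ∈ Finset.range D.rank, rt D s j * car D (top D) (D.simple j) = 0 := by
    have h1 := level_eq_sum hD hs.1
    rw [h0] at h1
    exact (Finset.sum_eq_zero_iff_of_nonneg fun j hj =>
      mul_nonneg (hnn j (Finset.mem_range.1 hj)) (pos_level hD (G.simple_pos (Finset.mem_range.1 hj)))).1 h1.symm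
  refine not_pos_of_neg G hneg ?_
  rw [G.isPosRoot_iff_co]
  refine ⟨wact_lt G hw hs.1, fun j hj => ?_⟩
  rw [co_wact G hw hs.1 hj]
  refine Finset.sum_nonneg fun k hk => ?_
  have hk' := Finset.mem_range.1 hk
  rcases mul_eq_zero.1 (hterm k hk) with h1 | h1
  · have : RootCombGood.co D s k = 0 := (co_eq_zero_iff hc hs.1 hk').2 h1
    rw [this, zero_mul]
  · have h2 := hcon k hk' h1
    have h3 : D.IsPosRoot (wact D w (D.simple k)) := by
      rcases pos_or_neg G (wact_lt G hw (G.simple_lt hk')) with h | h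
      · exact h
      · exact absurd h h2
    exact mul_nonneg ((G.isPosRoot_iff_co.1 hs).2 k hk') ((G.isPosRoot_iff_co.1 h3).2 j hj)

theorem nG_mem_NL (hD : InList D) {r : ℕ} (hr : r < D.nroots) : nG hD r (1 : F) ∈ NL F D :=
  (NL_le_iff hD (NL F D)).1 le_rfl r hr

/-- simple reflections of level zero lie in `P` -/
theorem nG_mem_P (hD : InList D) {i : ℕ} (hi : i < D.rank) (h0 : car D (top D) (D.simple i) = 0) :
    nG hD (D.simple i) (1 : F) ∈ P F D := by
  obtain ⟨isL, H⟩ := exists_hip hD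
  have G := good hD
  refine mem_P_of_wact hD (NL_le D (nG_mem_NL hD (G.simple_lt hi))) (acts_nG_simple hD hi) ?_
  rw [wact_cons, wact_nil]
  exact (G.reflect_eq_iff hi (top_lt hD)).2 (H.simp i hi h0)

theorem min_aux (hD : InList D) : ∀ (m : ℕ) (w : List ℕ), (∀ a ∈ w, a < D.rank) → inv D w.reverse = m →
    ∀ n ∈ NL F D, Acts n w → ∀ c ∈ D.posUnipotent F, ∀ p ∈ P F D, ∃ p' ∈ P F D, ∃ n' ∈ NL F D,
      ∃ c' ∈ D.posUnipotent F, p * n * c = p' * n' * c' ∧ n' * c' * n'⁻¹ ∈ Q D F 0 := by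
  intro m
  induction m using Nat.strong_induction_on with
  | _ m ih =>
  intro w hw hm n hn hact c hc p hp
  have G := good hD
  have hwr : ∀ a ∈ w.reverse, a < D.rank := fun a ha => hw a (by simpa using ha)
  obtain ⟨a, ha, c', hc', hac, hna⟩ := split hD (NL_le D hn) hc
  have hp' : p * (n * a * n⁻¹) ∈ P F D := Subgroup.mul_mem _ hp (pos_le_P hD hna)
  have e1 : p * n * c = p * (n * a * n⁻¹) * n * c' := by rw [hac]; group
  by_cases hall : ∀ r, D.IsPosRoot r → D.IsNegRoot (wact D w r) → car D (top D) (wact D w r) ≤ -1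
  · refine ⟨_, hp', n, hn, c', Um_le n hc', e1, ?_⟩
    have hle : Um F D n ≤ (Q D F 0).comap (MulAut.conj n).toMonoidHom := by
      refine (Subgroup.closure_le _).2 ?_
      rintro x ⟨r, t, hr, hle, hx⟩
      have hx' : x = xG hD r t := (eq_xG_iff hD x r t).2 hx
      obtain ⟨t', ht'⟩ := acts_conj hD hact hr.1 t
      show n * x * n⁻¹ ∈ Q D F 0
      rw [hx', ht']
      have h1 := neg_of_map_le hD G hw hact hr.1 hle
      refine xG_mem_Q hD h1.1 ?_ t'
      rw [car0 hD]
      have := hall r hr h1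
      omega
    exact hle hc'
  · push Not at hall
    obtain ⟨r, hr, hneg, hlev⟩ := hall
    have h0 : car D (top D) (wact D w r) = 0 := by
      have := neg_level hD hneg
      omega
    have hs : D.IsPosRoot (D.neg (wact D w r)) := (isPosRoot_neg G hneg.1).2 hneg
    have hs0 : car D (top D) (D.neg (wact D w r)) = 0 := by
      rw [car_neg_right G _ hneg.1, h0]; norm_num
    have hwneg : D.IsNegRoot (wact D w.reverse (D.neg (wact D w r))) := by
      rw [wact_neg G hwr hneg.1, wact_reverse G hw hr.1, isNegRoot_neg G hr.1]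
      exact hr
    obtain ⟨i, hi, hi0, hineg⟩ := exists_simple_neg_zero hD hwr hs hs0 hwneg
    have hinv := inv_append_of_neg G hwr hi hineg
    have hniP := nG_mem_P (F := F) hD hi hi0
    have hact' : Acts (nG hD (D.simple i) 1 * n) (i :: w) := by
      have := Acts.mul G (acts_nG_simple (F := F) hD hi) hact hw
      simpa using this
    have hw' : ∀ a ∈ i :: w, a < D.rank := by
      intro a ha
      rcases List.mem_cons.1 ha with rfl | ha
      · exact hi
      · exact hw a ha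
    have hlt : inv D (i :: w).reverse < m := by
      rw [List.reverse_cons]
      omega
    obtain ⟨p'', hp'', n'', hn'', c'', hc'', e2, h2⟩ := ih _ hlt (i :: w) hw' rfl _
      (Subgroup.mul_mem _ (nG_mem_NL hD (G.simple_lt hi)) hn) hact' c' (Um_le n hc')
      (p * (n * a * n⁻¹) * (nG hD (D.simple i) 1)⁻¹) (Subgroup.mul_mem _ hp' (Subgroup.inv_mem _ hniP))
    refine ⟨p'', hp'', n'', hn'', c'', hc'', ?_, h2⟩
    rw [e1, ← e2]
    group

/-- minimal decomposition -/
theorem exists_min (hD : InList D) {g : GL D.Idx F} (hg : g ∈ D.group F) :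
    ∃ p ∈ P F D, ∃ n ∈ NL F D, ∃ c ∈ D.posUnipotent F, g = p * n * c ∧ n * c * n⁻¹ ∈ Q D F 0 := by
  obtain ⟨b, hb, n, hn, u, hu, e⟩ := (Cfsg.Agent.S1100.result (F := F) D hD).1 g hg
  obtain ⟨h, hh, n', hn', rfl⟩ := exists_diag_mul_NL hD hn
  obtain ⟨w, hw, hact⟩ := exists_acts hD (NL_le D hn')
  obtain ⟨p', hp', n'', hn'', c', hc', e', h'⟩ := min_aux hD _ w hw rfl n' hn' hact u (Um_le _ hu) (b * h)
    (Subgroup.mul_mem _ (borel_le_P hD hb) (diag_le_P hD hh))
  refine ⟨p', hp', n'', hn'', c', hc', ?_, h'⟩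
  rw [← e', e]
  group

theorem min_unique (hD : InList D) {p p' n c c' : GL D.Idx F} (hp : p ∈ P F D) (hp' : p' ∈ P F D)
    (hc : n * c * n⁻¹ ∈ Q D F 0) (hc' : n * c' * n⁻¹ ∈ Q D F 0) (h : p * n * c = p' * n * c') : c = c' ∧ p = p' := by
  have h1 : p⁻¹ * p' = n * c * n⁻¹ * (n * c' * n⁻¹)⁻¹ := by
    calc p⁻¹ * p' = p⁻¹ * (p' * n * c') * (n * c')⁻¹ := by group
      _ = p⁻¹ * (p * n * c) * (n * c')⁻¹ := by rw [h]
      _ = _ := by group
  have h2 : p⁻¹ * p' = 1 := P_inf_Q0 hD (Subgroup.mul_mem _ (Subgroup.inv_mem _ hp) hp')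
    (by rw [h1]; exact Subgroup.mul_mem _ hc (Subgroup.inv_mem _ hc'))
  have h3 : p = p' := (inv_mul_eq_one.1 h2)
  subst h3
  exact ⟨mul_left_cancel h, rfl⟩

/-! ### The Frobenius action -/

variable {f : F →+* F}

theorem fr_mem_Q (hD : InList D) (f : F →+* F) {β : ℕ} {g : GL D.Idx F} (hg : g ∈ Q D F β) : fr D f g ∈ Q D F β := by
  have h : Q D F β ≤ (Q D F β).comap (fr D f) := by
    rw [Q_le_iff hD]
    intro r hr h1 t
    show fr D f (xG hD r t) ∈ Q D F β
    rw [fr_xG]
    exact xG_mem_Q hD hr h1 _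
  exact h hg

theorem fr_mem_P (hD : InList D) (f : F →+* F) {g : GL D.Idx F} (hg : g ∈ P F D) : fr D f g ∈ P F D := by
  obtain ⟨t, ht⟩ := P_conj_top hD hg 1
  refine mem_P_of_conj hD (fr_mem_group hD f hg.1) (t := 1) (t' := f t) one_ne_zero ?_
  have := congrArg (fr D f) ht
  rwa [map_mul, map_mul, map_inv, fr_xG, fr_xG, map_one] at this

/-- if a conjugate of a non-trivial element of `X_a` is fixed then `g = p l` with `l` in the fixed group -/
theorem exists_fixed_part (hD : InList D) {g : GL D.Idx F} (hg : g ∈ D.group F) {t : F} (ht : t ≠ 0)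
    (h : fr D f (g⁻¹ * xG hD (top D) t * g) = g⁻¹ * xG hD (top D) t * g) :
    ∃ p ∈ P F D, ∃ l ∈ FL D f, g = p * l := by
  obtain ⟨p, hp, n, hn, c, hc, e, hQ⟩ := exists_min hD hg
  have hfg := fr_mem_group hD f hg
  -- `σ(g) g⁻¹ ∈ P`
  have h1 : fr D f g * g⁻¹ ∈ P F D := by
    refine mem_P_of_conj hD (Subgroup.mul_mem _ hfg (Subgroup.inv_mem _ hg)) (t := t) (t' := f t) ht ?_
    have h2 : (fr D f g)⁻¹ * xG hD (top D) (f t) * fr D f g = g⁻¹ * xG hD (top D) t * g := by
      rw [← h, map_mul, map_mul, map_inv, fr_xG]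
    calc fr D f g * g⁻¹ * xG hD (top D) t * (fr D f g * g⁻¹)⁻¹
        = fr D f g * (g⁻¹ * xG hD (top D) t * g) * (fr D f g)⁻¹ := by group
      _ = fr D f g * ((fr D f g)⁻¹ * xG hD (top D) (f t) * fr D f g) * (fr D f g)⁻¹ := by rw [h2]
      _ = _ := by group
  have hfn : fr D f n = n := fr_of_mem_FL hD (NL_le_FL hD f hn)
  have h3 : fr D f p * n * fr D f c = (fr D f g * g⁻¹ * p) * n * c := by
    have : fr D f g = fr D f p * n * fr D f c := by rw [e, map_mul, map_mul, hfn]
    rw [← this]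
    have e' : g⁻¹ * (p * n * c) = 1 := by rw [← e]; group
    calc fr D f g = fr D f g * 1 := by group
      _ = fr D f g * (g⁻¹ * (p * n * c)) := by rw [e']
      _ = _ := by group
  have hfQ : n * fr D f c * n⁻¹ ∈ Q D F 0 := by
    have := fr_mem_Q hD f hQ
    rwa [map_mul, map_mul, map_inv, hfn] at this
  have h4 := (min_unique hD (fr_mem_P hD f hp) (Subgroup.mul_mem _ h1 hp) hfQ hQ h3).1
  exact ⟨p, hp, n * c, Subgroup.mul_mem _ (NL_le_FL hD f hn) (mem_FL_of_pos hD hc h4), by rw [e]; group⟩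

/-- same for elements of a group `H ≥ FL` with `H ∩ P` fixed -/
theorem fixed_of_conj (hD : InList D) {H : Subgroup (GL D.Idx F)} (hH : H ≤ D.group F) (hFL : FL D f ≤ H)
    (hP : ∀ g ∈ H, g ∈ P F D → fr D f g = g) {g : GL D.Idx F} (hg : g ∈ H) {t : F} (ht : t ≠ 0)
    (h : fr D f (g⁻¹ * xG hD (top D) t * g) = g⁻¹ * xG hD (top D) t * g) : fr D f g = g := by
  obtain ⟨p, hp, l, hl, e⟩ := exists_fixed_part hD (hH hg) ht h
  have hpH : p ∈ H := by
    have : p = g * l⁻¹ := by rw [e]; group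
    rw [this]
    exact Subgroup.mul_mem _ hg (Subgroup.inv_mem _ (hFL hl))
  rw [e, map_mul, hP p hpH hp, fr_of_mem_FL hD hl]

end Cfsg.Agent.H86.Par
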