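import Cfsg.Agent.H86.Graded
import Cfsg.Agent.ChevalleyStructure.UnipProd

/-!
# The groups `Q D F β` generated by the root subgroups of positive level

* `exists_form` : elements of `Q` are products `∏ x_s(c_s) · x_β(t)`, `s` of level one;
* `kap` : the coordinate of level one; `mem_root_of_kap` : elements of `Q` with zero coordinates lie in `X_β`;
* `eq_one_of_conj` : `v ∈ Q`, `v x_{-β}(t) v⁻¹ ∈ X_{-β}`, `t ≠ 0` ⟹ `v = 1`.
-/

set_option autoImplicit false

namespace Cfsg.Agent.H86.Graded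

open Cfsg.Lie Cfsg.Agent.ChevalleyStructure Cfsg.Agent.ChevalleyStructure.RootCombGood
  Cfsg.Agent.ChevalleyStructure.RootWord Cfsg.Agent.ChevalleyStructure.RootVec
  Cfsg.Agent.ChevalleyStructure.RootVecTab Cfsg.Agent.ChevalleyStructure.RootSupport
  Cfsg.Agent.ChevalleyStructure.Elts Cfsg.Agent.H86.Lev

universe u

variable {D : ChevalleyDatum} {F : Type u} [Field F]

theorem commTerms_lin (hc : Checked D) {L : ℕ → ℤ} (hL : Lin D L) {r s : ℕ} {c : ℕ × ℤ × ℕ × ℕ}
    (h : c ∈ D.commTerms r s) : c.1 < D.nroots ∧ 1 ≤ c.2.2.1 ∧ 1 ≤ c.2.2.2 ∧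
      L c.1 = (c.2.2.1 : ℤ) * L r + (c.2.2.2 : ℤ) * L s := by
  obtain ⟨u, C, i, j⟩ := c
  obtain ⟨h1, h2, h3, h4, h5, h6⟩ := commTerms_rt hc h
  exact ⟨h1, h4, h5, hL _ _ _ _ _ h1 h2 h3 fun a _ => h6 a⟩

/-- commutator word with all roots in a subgroup -/
theorem commWord_mem (hD : InList D) {r s : ℕ} {t u : F} {K : Subgroup (GL D.Idx F)}
    (h : ∀ c ∈ D.commTerms r s, ∀ v : F, xG hD c.1 v ∈ K) : wordG hD (D.commWord F r s t u) ∈ K := by
  refine mem_of_xG_mem hD fun p hp => ?_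
  obtain ⟨c, hc, hpc⟩ := UnipOrd.mem_commWord hp
  rw [hpc]
  exact h c hc _

/-- the group generated by the root subgroups of positive level -/
def Q (D : ChevalleyDatum) (F : Type u) [Field F] (β : ℕ) : Subgroup (GL D.Idx F) :=
  Subgroup.closure {g : GL D.Idx F | ∃ (r : ℕ) (t : F), r < D.nroots ∧ 1 ≤ car D β r ∧
    (g : Matrix D.Idx D.Idx F) = D.x F r t}

theorem xG_mem_Q (hD : InList D) {β r : ℕ} (hr : r < D.nroots) (h : 1 ≤ car D β r) (t : F) :
    xG hD r t ∈ Q D F β := Subgroup.subset_closure ⟨r, t, hr, h, coe_xG hD r t⟩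

theorem Q_le_iff (hD : InList D) {β : ℕ} {K : Subgroup (GL D.Idx F)} :
    Q D F β ≤ K ↔ ∀ r < D.nroots, 1 ≤ car D β r → ∀ t : F, xG hD r t ∈ K := by
  constructor
  · intro h r hr hl t
    exact h (xG_mem_Q hD hr hl t)
  · intro h
    refine (Subgroup.closure_le _).2 ?_
    rintro g ⟨r, t, hr, hl, hg⟩
    rw [(eq_xG_iff hD g r t).2 hg]
    exact h r hr hl t

theorem Q_le_Rg (hD : InList D) (β : ℕ) : Q D F β ≤ Rg D F (car D β) 1 zero_le_one :=
  (Q_le_iff hD).2 fun _ hr h t => xG_mem_Rg hD (lin_car (checked_of_mem hD) β) hr _ h t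

theorem car_neg_self (G : Good D) {β : ℕ} (hβ : β < D.nroots) : car D β (D.neg β) = -2 := by
  rw [car_neg_right G β hβ, G.car_self hβ]

/-- the root `s - β` for `s` of level one -/
def pt (D : ChevalleyDatum) (β s : ℕ) : ℕ := ((D.chainEntry s (D.neg β)).head?.map Prod.fst).getD 0

/-- the sign of `x_s(t)` at `(s - β, -β)` -/
def sg (D : ChevalleyDatum) (β s : ℕ) : ℤ := ((D.chainEntry s (D.neg β)).head?.map Prod.snd).getD 0

theorem pt_spec (hc : Checked D) {β s : ℕ} (T : Hi D β) (hs : s < D.nroots) (h : car D β s = 1) :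
    pt D β s < D.nroots ∧ (∀ i, rt D (pt D β s) i = rt D (D.neg β) i + rt D s i) ∧
      D.chainCoeff s (D.neg β) (pt D β s) = [(1, sg D β s)] ∧ (sg D β s = 1 ∨ sg D β s = -1) := by
  obtain ⟨e, he, h1, h2⟩ := T.one s hs h
  have he' : (D.chainEntry s (D.neg β)).head? = some e := he
  have hp : pt D β s = e.1 := by unfold pt; rw [he']; rfl
  have hq : sg D β s = e.2 := by unfold sg; rw [he']; rfl
  rw [List.head?_eq_getElem?] at he'
  obtain ⟨h3, -, -, h4⟩ := chainEntry_get hc he'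
  rw [hp, hq]
  refine ⟨h3, fun i => ?_, h1, h2⟩
  rw [h4 i]
  push_cast
  ring

theorem car_pt (hc : Checked D) (G : Good D) {β s : ℕ} (T : Hi D β) (hs : s < D.nroots) (h : car D β s = 1) :
    car D β (pt D β s) = -1 := by
  obtain ⟨h1, h2, -, -⟩ := pt_spec hc T hs h
  have hn := RootWord.neg_lt G T.lt
  rw [lin_car hc β _ _ _ 1 1 h1 hn hs (fun i _ => by rw [h2 i]; ring), car_neg_self G T.lt, h]
  norm_num

theorem pt_inj (hc : Checked D) {β s s' : ℕ} (T : Hi D β) (hs : s < D.nroots) (h : car D β s = 1)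
    (hs' : s' < D.nroots) (h' : car D β s' = 1) (e : pt D β s = pt D β s') : s = s' := by
  refine rt_inj hc hs hs' fun i _ => ?_
  have h1 := (pt_spec hc T hs h).2.1 i
  have h2 := (pt_spec hc T hs' h').2.1 i
  rw [e, h2] at h1
  linarith

theorem sg_sq {β s : ℕ} (hc : Checked D) (T : Hi D β) (hs : s < D.nroots) (h : car D β s = 1) :
    ((sg D β s : ℤ) : F) * ((sg D β s : ℤ) : F) = 1 := by
  rcases (pt_spec hc T hs h).2.2.2 with h | h <;> rw [h] <;> simp

section

variable {β : ℕ}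

/-- the entry of `x_s(t)` at `(s - β, -β)` -/
theorem x_pt (hD : InList D) (G : Good D) (T : Hi D β) {s : ℕ} (hs : s < D.nroots) (h : car D β s = 1) (t : F) :
    D.x F s t (Sum.inr ⟨pt D β s, (pt_spec (checked_of_mem hD) T hs h).1⟩)
      (Sum.inr ⟨D.neg β, RootWord.neg_lt G T.lt⟩) = ((sg D β s : ℤ) : F) * t := by
  have hc := checked_of_mem hD
  obtain ⟨h1, h2, h3, h4⟩ := pt_spec hc T hs h
  have hn := RootWord.neg_lt G T.lt
  have hLn := car_neg_self G T.lt
  have hLp := car_pt hc G T hs h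
  rw [x_of_lt hs]
  have c1 : (⟨D.neg β, hn⟩ : Fin D.nroots) ≠ ⟨s, hs⟩ := by
    intro e
    have : D.neg β = s := congrArg Fin.val e
    rw [this, h] at hLn
    norm_num at hLn
  have c2 : ¬ D.neg β = D.neg s := by
    intro e
    have := RootWord.neg_inj G T.lt hs e
    rw [← this, G.car_self T.lt] at h
    norm_num at h
  have c3 : (⟨pt D β s, h1⟩ : Fin D.nroots) ≠ ⟨D.neg β, hn⟩ := by
    intro e
    have : pt D β s = D.neg β := congrArg Fin.val e
    rw [this, hLn] at hLp
    norm_num at hLp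
  show (if (⟨D.neg β, hn⟩ : Fin D.nroots) = ⟨s, hs⟩ then _ else if D.neg β = D.neg s then _ else
    (if (⟨pt D β s, h1⟩ : Fin D.nroots) = ⟨D.neg β, hn⟩ then (1 : F) else 0) +
      ((D.chainCoeff s (D.neg β) (pt D β s)).map fun km => ((km.2 : ℤ) : F) * t ^ km.1).sum) = _
  rw [if_neg c1, if_neg c2, if_neg c3, h3]
  simp

/-- the entry at `(s - β, -β)` of the other root elements of level at least one vanishes -/
theorem x_pt_ne (hD : InList D) (G : Good D) (T : Hi D β) {s r : ℕ} (hs : s < D.nroots) (h : car D β s = 1)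
    (hr : r < D.nroots) (hr1 : 1 ≤ car D β r) (hrs : r ≠ s) (t : F) :
    D.x F r t (Sum.inr ⟨pt D β s, (pt_spec (checked_of_mem hD) T hs h).1⟩)
      (Sum.inr ⟨D.neg β, RootWord.neg_lt G T.lt⟩) = 0 := by
  have hc := checked_of_mem hD
  obtain ⟨h1, h2, h3, h4⟩ := pt_spec hc T hs h
  have hn := RootWord.neg_lt G T.lt
  have hLn := car_neg_self G T.lt
  have hLp := car_pt hc G T hs h
  by_contra hne
  have hne' : (D.x F r t - 1) (Sum.inr ⟨pt D β s, h1⟩) (Sum.inr ⟨D.neg β, hn⟩) ≠ 0 := by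
    rw [Matrix.sub_apply, Matrix.one_apply_ne, sub_zero]
    · exact hne
    · intro e
      have : pt D β s = D.neg β := congrArg Fin.val (Sum.inr_injective e)
      rw [this, hLn] at hLp
      norm_num at hLp
  obtain ⟨k, hk, hw⟩ := x_sub_one_support hc r t _ _ hne'
  obtain ⟨k', hk', hw'⟩ := x_support hc (lin_car hc β) hr t hne'
  -- `k = 1` by levels
  have e1 := hL' k hk hw
  apply hrs
  refine rt_inj hc hr hs fun i _ => ?_
  have h5 := hw i
  simp only [wt_inr] at h5
  rw [h2 i, e1] at h5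
  push_cast at h5
  linarith
where
  hL' : ∀ k : ℕ, 1 ≤ k → (∀ i, wt D (Sum.inr ⟨pt D β s, (pt_spec (checked_of_mem hD) T hs h).1⟩) i =
      wt D (Sum.inr ⟨D.neg β, RootWord.neg_lt G T.lt⟩) i + (k : ℤ) * rt D r i) → k = 1 := by
    intro k hk hw
    have hc := checked_of_mem hD
    have hn := RootWord.neg_lt G T.lt
    have h1 := (pt_spec hc T hs h).1
    have := lin_car hc β _ _ _ 1 (k : ℤ) h1 hn hr (fun i _ => by
      have := hw i
      simp only [wt_inr] at this
      linarith)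
    rw [car_pt hc G T hs h, car_neg_self G T.lt] at this
    have h5 : (k : ℤ) * car D β r = 1 := by linarith
    have h6 : (k : ℤ) ≤ (k : ℤ) * car D β r := by
      have : (0 : ℤ) ≤ k := by positivity
      nlinarith
    have : (k : ℤ) ≤ 1 := by omega
    omega

/-- the level one coordinate -/
def kap (D : ChevalleyDatum) (β s : ℕ) (g : Matrix D.Idx D.Idx F) : F :=
  if h : pt D β s < D.nroots ∧ D.neg β < D.nroots then
    ((sg D β s : ℤ) : F) * g (Sum.inr ⟨pt D β s, h.1⟩) (Sum.inr ⟨D.neg β, h.2⟩) else 0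

theorem kap_x_self (hD : InList D) (G : Good D) (T : Hi D β) {s : ℕ} (hs : s < D.nroots) (h : car D β s = 1)
    (t : F) : kap D β s (D.x F s t) = t := by
  have hc := checked_of_mem hD
  rw [kap, dif_pos ⟨(pt_spec hc T hs h).1, RootWord.neg_lt G T.lt⟩, x_pt hD G T hs h, ← mul_assoc,
    sg_sq hc T hs h, one_mul]

theorem kap_x_ne (hD : InList D) (G : Good D) (T : Hi D β) {s r : ℕ} (hs : s < D.nroots) (h : car D β s = 1)
    (hr : r < D.nroots) (hr1 : 1 ≤ car D β r) (hrs : r ≠ s) (t : F) : kap D β s (D.x F r t) = 0 := by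
  have hc := checked_of_mem hD
  rw [kap, dif_pos ⟨(pt_spec hc T hs h).1, RootWord.neg_lt G T.lt⟩, x_pt_ne hD G T hs h hr hr1 hrs, mul_zero]

theorem kap_one (hD : InList D) (G : Good D) (T : Hi D β) {s : ℕ} (hs : s < D.nroots) (h : car D β s = 1) :
    kap D β s (1 : Matrix D.Idx D.Idx F) = 0 := by
  have := kap_x_self (F := F) hD G T hs h 0
  rwa [x_zero hD] at this

theorem kap_mul (hD : InList D) (G : Good D) (T : Hi D β) {s : ℕ} (hs : s < D.nroots) (h : car D β s = 1)
    {g g' : GL D.Idx F} (hg : g ∈ Rg D F (car D β) 1 zero_le_one) (hg' : g' ∈ Rg D F (car D β) 1 zero_le_one) :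
    kap D β s ((g * g' : GL D.Idx F) : Matrix D.Idx D.Idx F) = kap D β s g + kap D β s g' := by
  have hc := checked_of_mem hD
  have h1 := (pt_spec hc T hs h).1
  have hn := RootWord.neg_lt G T.lt
  unfold kap
  rw [dif_pos ⟨h1, hn⟩, dif_pos ⟨h1, hn⟩, dif_pos ⟨h1, hn⟩, Rg.mul_apply hg hg', mul_add]
  · intro e
    have e' : pt D β s = D.neg β := congrArg Fin.val (Sum.inr_injective e)
    have := car_pt hc G T hs h
    rw [e', car_neg_self G T.lt] at this
    norm_num at this
  · simp only [wl_inr, car_pt hc G T hs h, car_neg_self G T.lt]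
    norm_num

/-! ### The product form -/

theorem neg_not_pos (G : Good D) {r s : ℕ} (hr : r < D.nroots) (h1 : 1 ≤ car D β r) (h2 : 1 ≤ car D β s) :
    s ≠ D.neg r := by
  rintro rfl
  rw [car_neg_right G β hr] at h2
  omega

/-- `X_β` is central in `Q` -/
theorem comm_top (hD : InList D) (G : Good D) (T : Hi D β) {r : ℕ} (hr : r < D.nroots) (h1 : 1 ≤ car D β r)
    (t u : F) : xG hD r u * xG hD β t = xG hD β t * xG hD r u := by
  have hc := checked_of_mem hD
  by_cases hrβ : r = β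
  · subst hrβ
    rw [xG_add, xG_add, add_comm]
  · have hββ := G.car_self T.lt
    rw [UnipProd.xG_comm hD T.lt hr hrβ (neg_not_pos G T.lt (by rw [hββ]; norm_num) h1)]
    have : D.commTerms β r = [] := by
      rw [List.eq_nil_iff_forall_not_mem]
      intro c hcm
      obtain ⟨h3, h4, h5, h6⟩ := commTerms_lin hc (lin_car hc β) hcm
      have := T.high _ h3
      rw [hββ] at h6
      have h4' : (1 : ℤ) ≤ (c.2.2.1 : ℤ) := by exact_mod_cast h4
      have h5' : (1 : ℤ) ≤ (c.2.2.2 : ℤ) := by exact_mod_cast h5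
      nlinarith
    have h2 : D.commWord F β r t u = [] := by
      unfold ChevalleyDatum.commWord
      rw [this]; rfl
    rw [h2, wordG_nil, mul_one]

theorem Q_comm_top (hD : InList D) (G : Good D) (T : Hi D β) {v : GL D.Idx F} (hv : v ∈ Q D F β) (t : F) :
    v * xG hD β t = xG hD β t * v := by
  have : Q D F β ≤ Subgroup.centralizer {xG hD β t} := by
    rw [Q_le_iff hD]
    intro r hr h1 u
    rw [Subgroup.mem_centralizer_singleton_iff]
    exact comm_top hD G T hr h1 t u
  exact Subgroup.mem_centralizer_singleton_iff.1 (this hv)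

/-- generators of `Q` commute modulo `X_β` -/
theorem comm_one (hD : InList D) (G : Good D) (T : Hi D β) {r s : ℕ} (hr : r < D.nroots) (h1 : 1 ≤ car D β r)
    (hs : s < D.nroots) (h2 : 1 ≤ car D β s) (t u : F) :
    ∃ z : F, xG hD s u * xG hD r t = xG hD r t * xG hD s u * xG hD β z := by
  have hc := checked_of_mem hD
  by_cases hrs : s = r
  · subst hrs
    exact ⟨0, by rw [xG_add, xG_add, add_comm, xG_zero, mul_one]⟩
  · rw [UnipProd.xG_comm hD hr hs hrs (neg_not_pos G hr h1 h2)]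
    have hm : wordG hD (D.commWord F r s t u) ∈ D.rootSubgroup F β := by
      refine commWord_mem hD fun c hcm v => ?_
      obtain ⟨h3, h4, h5, h6⟩ := commTerms_lin hc (lin_car hc β) hcm
      have h7 := T.high _ h3
      have h4' : (1 : ℤ) ≤ (c.2.2.1 : ℤ) := by exact_mod_cast h4
      have h5' : (1 : ℤ) ≤ (c.2.2.2 : ℤ) := by exact_mod_cast h5
      have h8 : car D β c.1 = 2 := by nlinarith
      rw [T.top _ h3 h8]
      exact xG_mem_rootSubgroup hD β v
    obtain ⟨z, hz⟩ := (mem_rootSubgroup_iff hD β _).1 hm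
    exact ⟨z, by rw [hz]⟩

/-- product of root elements of level one -/
def Wd (hD : InList D) (l : List ℕ) (c : ℕ → F) : GL D.Idx F := wordG hD (l.map fun r => (r, c r))

theorem Wd_cons (hD : InList D) (r : ℕ) (l : List ℕ) (c : ℕ → F) :
    Wd hD (r :: l) c = xG hD r (c r) * Wd hD l c := rfl

theorem Wd_mem_Q (hD : InList D) (l : List ℕ) (c : ℕ → F) (hl : ∀ r ∈ l, r < D.nroots ∧ car D β r = 1) :
    Wd hD l c ∈ Q D F β := by
  refine mem_of_xG_mem hD ?_
  intro p hp
  obtain ⟨r, hr, rfl⟩ := List.mem_map.1 hp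
  exact xG_mem_Q hD (hl r hr).1 (hl r hr).2.ge _

theorem Wd_update (hD : InList D) (G : Good D) (T : Hi D β) {s : ℕ} (u : F) : ∀ (l : List ℕ) (c : ℕ → F),
    (∀ r ∈ l, r < D.nroots ∧ car D β r = 1) → l.Nodup → s ∈ l →
    ∃ z : F, xG hD s u * Wd hD l c = Wd hD l (Function.update c s (c s + u)) * xG hD β z
  | [], _, _, _, hs => absurd hs List.not_mem_nil
  | r :: l, c, hl, hn, hs => by
    have hl' : ∀ r ∈ l, r < D.nroots ∧ car D β r = 1 := fun r hr => hl r (List.mem_cons_of_mem _ hr)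
    have hn' := (List.nodup_cons.1 hn)
    by_cases hsr : s = r
    · subst hsr
      refine ⟨0, ?_⟩
      rw [Wd_cons, Wd_cons, ← mul_assoc, xG_add, xG_zero, mul_one, Function.update_self, add_comm]
      congr 1
      unfold Wd
      congr 1
      refine List.map_congr_left fun r hr => ?_
      rw [Function.update_of_ne]
      rintro rfl
      exact hn'.1 hr
    · have hs' : s ∈ l := by
        rcases List.mem_cons.1 hs with h | h
        · exact absurd h hsr
        · exact h
      obtain ⟨z, hz⟩ := Wd_update hD G T u l c hl' hn'.2 hs'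
      obtain ⟨z', hz'⟩ := comm_one hD G T (hl r List.mem_cons_self).1 (hl r List.mem_cons_self).2.ge
        (hl' s hs').1 (hl' s hs').2.ge (c r) u
      refine ⟨z + z', ?_⟩
      rw [Wd_cons, Wd_cons, Function.update_of_ne (Ne.symm hsr), ← mul_assoc, hz']
      have h1 := Q_comm_top hD G T (Wd_mem_Q (β := β) hD l c hl') z'
      calc xG hD r (c r) * xG hD s u * xG hD β z' * Wd hD l c
          = xG hD r (c r) * xG hD s u * (xG hD β z' * Wd hD l c) := by group
        _ = xG hD r (c r) * (xG hD s u * Wd hD l c) * xG hD β z' := by rw [← h1]; group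
        _ = xG hD r (c r) * Wd hD l (Function.update c s (c s + u)) * (xG hD β z * xG hD β z') := by
          rw [hz]; group
        _ = _ := by rw [xG_add]

/-- the roots of level one -/
def lev1 (D : ChevalleyDatum) (β : ℕ) : List ℕ := (List.range D.nroots).filter fun r => decide (car D β r = 1)

theorem mem_lev1 {s : ℕ} : s ∈ lev1 D β ↔ s < D.nroots ∧ car D β s = 1 := by
  unfold lev1
  rw [List.mem_filter, List.mem_range, decide_eq_true_eq]

theorem nodup_lev1 : (lev1 D β).Nodup := List.nodup_range.filter _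

theorem exists_form (hD : InList D) (G : Good D) (T : Hi D β) {v : GL D.Idx F} (hv : v ∈ Q D F β) :
    ∃ (c : ℕ → F) (t : F), v = Wd hD (lev1 D β) c * xG hD β t := by
  have hl : ∀ r ∈ lev1 D β, r < D.nroots ∧ car D β r = 1 := fun r hr => mem_lev1.1 hr
  have key : ∀ (r : ℕ) (u : F), r < D.nroots → 1 ≤ car D β r → ∀ v : GL D.Idx F,
      (∃ (c : ℕ → F) (t : F), v = Wd hD (lev1 D β) c * xG hD β t) →
      ∃ (c : ℕ → F) (t : F), xG hD r u * v = Wd hD (lev1 D β) c * xG hD β t := by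
    rintro r u hr h1 v ⟨c, t, rfl⟩
    have h2 := T.high r hr
    rcases (show car D β r = 1 ∨ car D β r = 2 by omega) with h | h
    · obtain ⟨z, hz⟩ := Wd_update hD G T u (lev1 D β) c hl nodup_lev1 (mem_lev1.2 ⟨hr, h⟩)
      exact ⟨_, z + t, by rw [← mul_assoc, hz, mul_assoc, xG_add]⟩
    · rw [T.top r hr h]
      refine ⟨c, u + t, ?_⟩
      rw [← mul_assoc, ← Q_comm_top hD G T (Wd_mem_Q hD _ c hl), mul_assoc, xG_add]
  unfold Q at hv
  induction hv using Subgroup.closure_induction_left with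
  | one => exact ⟨fun _ => 0, 0, by
      rw [xG_zero, mul_one]
      unfold Wd
      induction lev1 D β with
      | nil => rfl
      | cons a l ih => rw [List.map_cons, wordG_cons, xG_zero, one_mul]; exact ih⟩
  | mul_left x hx y _ ih =>
    obtain ⟨r, t, hr, h1, hx⟩ := hx
    rw [(eq_xG_iff hD x r t).2 hx]
    exact key r t hr h1 y ih
  | inv_mul_cancel x hx y _ ih =>
    obtain ⟨r, t, hr, h1, hx⟩ := hx
    rw [(eq_xG_iff hD x r t).2 hx, xG_inv]
    exact key r (-t) hr h1 y ih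

theorem kap_Wd (hD : InList D) (G : Good D) (T : Hi D β) {s : ℕ} (hs : s < D.nroots) (h : car D β s = 1)
    (c : ℕ → F) : ∀ l : List ℕ, (∀ r ∈ l, r < D.nroots ∧ car D β r = 1) → l.Nodup →
    kap D β s (Wd hD l c : Matrix D.Idx D.Idx F) = if s ∈ l then c s else 0
  | [], _, _ => by
    show kap D β s (1 : Matrix D.Idx D.Idx F) = _
    rw [kap_one hD G T hs h]
    simp
  | r :: l, hl, hn => by
    have hl' : ∀ r ∈ l, r < D.nroots ∧ car D β r = 1 := fun r hr => hl r (List.mem_cons_of_mem _ hr)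
    have hn' := (List.nodup_cons.1 hn)
    have hr := hl r List.mem_cons_self
    rw [Wd_cons, kap_mul hD G T hs h (Q_le_Rg hD β (xG_mem_Q hD hr.1 hr.2.ge _))
      (Q_le_Rg hD β (Wd_mem_Q hD l c hl')), kap_Wd hD G T hs h c l hl' hn'.2, coe_xG]
    by_cases hrs : r = s
    · subst hrs
      rw [kap_x_self hD G T hs h, if_neg hn'.1, add_zero, if_pos List.mem_cons_self]
    · rw [kap_x_ne hD G T hs h hr.1 hr.2.ge hrs, zero_add]
      by_cases hsl : s ∈ l
      · rw [if_pos hsl, if_pos (List.mem_cons_of_mem _ hsl)]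
      · rw [if_neg hsl, if_neg]
        intro h'
        rcases List.mem_cons.1 h' with h' | h'
        · exact hrs h'.symm
        · exact hsl h'

/-- the normal form of the elements of `Q` -/
theorem form (hD : InList D) (G : Good D) (T : Hi D β) {v : GL D.Idx F} (hv : v ∈ Q D F β) :
    ∃ t : F, v = Wd hD (lev1 D β) (fun s => kap D β s v) * xG hD β t := by
  obtain ⟨c, t, rfl⟩ := exists_form hD G T hv
  have hl : ∀ r ∈ lev1 D β, r < D.nroots ∧ car D β r = 1 := fun r hr => mem_lev1.1 hr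
  refine ⟨t, ?_⟩
  congr 1
  unfold Wd
  congr 1
  refine List.map_congr_left fun s hs => ?_
  have hs' := hl s hs
  have h1 : kap D β s ((Wd hD (lev1 D β) c * xG hD β t : GL D.Idx F) : Matrix D.Idx D.Idx F) = c s := by
    rw [kap_mul hD G T hs'.1 hs'.2 (Q_le_Rg hD β (Wd_mem_Q hD _ c hl))
      (Q_le_Rg hD β (xG_mem_Q hD T.lt (by rw [G.car_self T.lt]; norm_num) t)), kap_Wd hD G T hs'.1 hs'.2 c _ hl
      nodup_lev1, if_pos hs, coe_xG, kap_x_ne hD G T hs'.1 hs'.2 T.lt (by rw [G.car_self T.lt]; norm_num), add_zero]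
    rintro rfl
    rw [G.car_self T.lt] at hs'
    norm_num at hs'
  exact Prod.ext rfl h1.symm

theorem Wd_zero (hD : InList D) (l : List ℕ) (c : ℕ → F) (hc : ∀ r ∈ l, c r = 0) : Wd hD l c = 1 := by
  induction l with
  | nil => rfl
  | cons a l ih =>
    rw [Wd_cons, hc a List.mem_cons_self, xG_zero, one_mul]
    exact ih fun r hr => hc r (List.mem_cons_of_mem _ hr)

theorem eq_top_of_kap (hD : InList D) (G : Good D) (T : Hi D β) {v : GL D.Idx F} (hv : v ∈ Q D F β)
    (h : ∀ s < D.nroots, car D β s = 1 → kap D β s (v : Matrix D.Idx D.Idx F) = 0) : ∃ t : F, v = xG hD β t := by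
  obtain ⟨t, ht⟩ := form hD G T hv
  refine ⟨t, ?_⟩
  rw [ht, Wd_zero hD, one_mul]
  intro r hr
  have := mem_lev1.1 hr
  exact h r this.1 this.2

end

end Cfsg.Agent.H86.Graded
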